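import Mathlib
import Cfsg.Prelude.Def_Sporadic_a

/-!
Kernel-friendly description of the length-24 code: `w ∈ golayCode ↔ ∃ c < 4096, w = word (enc c)`
where `enc c` is the XOR of the systematic basis masks selected by the 12 bits of `c`.
-/

set_option autoImplicit false

namespace Cfsg.Agent.LeechMat.Code

open Cfsg

/-- position of a point: `some x ↦ x`, `none ↦ 23` -/
def pos : GolayPt → ℕ
  | none => 23
  | some x => x.val

/-- the point at a position -/
def pt (k : ℕ) : GolayPt := if k = 23 then none else some (k : ZMod 23)

theorem pos_lt (p : GolayPt) : pos p < 24 := by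
  rcases p with _ | x
  · show 23 < 24; norm_num
  · exact (ZMod.val_lt x).trans (by norm_num)

theorem pt_pos (p : GolayPt) : pt (pos p) = p := by
  revert p; decide

theorem pos_pt (k : ℕ) (hk : k < 24) : pos (pt k) = k := by
  have : ∀ k : Fin 24, pos (pt k) = k := by decide
  exact this ⟨k, hk⟩

theorem pos_inj {p q : GolayPt} (h : pos p = pos q) : p = q := by
  rw [← pt_pos p, h, pt_pos]

/-- binary word with given bitmask -/
def word (n : ℕ) : GolayPt → ZMod 2 := fun p => if n.testBit (pos p) then 1 else 0

theorem word_apply (n : ℕ) (p : GolayPt) : word n p = if n.testBit (pos p) then 1 else 0 := rfl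

theorem word_xor (a b : ℕ) : word (a ^^^ b) = word a + word b := by
  funext p
  simp only [word_apply, Pi.add_apply, Nat.testBit_xor]
  cases a.testBit (pos p) <;> cases b.testBit (pos p) <;> decide

theorem word_zero : word 0 = 0 := by
  funext p
  simp [word_apply]

/-- systematic basis masks (all octads) -/
def basis : List ℕ :=
  [0xc75001, 0x49f002, 0xd4b004, 0x6e3008, 0x9b3010, 0xb66020, 0xecc040, 0x1ed080, 0x3da100,
   0x7b4200, 0xb1d400, 0xe3a800]

/-- how the basis words are combinations of the 24 generators (bits 0..22: `qrWord`, bit 23: ones) -/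
def combos : List ℕ :=
  [0x8006a9, 0x118, 0x800499, 0x578, 0x8006ba, 0x800797, 0x8005cd, 0x7d0, 0x543, 0x65, 0x800663,
   0x800625]

/-- encoder: XOR of the basis masks selected by the bits of `c` -/
def encAux : List ℕ → ℕ → ℕ
  | [], _ => 0
  | b :: l, c => (if c.testBit 0 then b else 0) ^^^ encAux l (c >>> 1)

/-- encoder -/
def enc (c : ℕ) : ℕ := encAux basis c

theorem encAux_xor (l : List ℕ) (a b : ℕ) : encAux l (a ^^^ b) = encAux l a ^^^ encAux l b := by
  induction l generalizing a b with
  | nil => simp [encAux]
  | cons x l ih =>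
    show (if (a ^^^ b).testBit 0 then x else 0) ^^^ encAux l ((a ^^^ b) >>> 1) = _
    rw [Nat.shiftRight_xor_distrib, ih]
    show _ = ((if a.testBit 0 then x else 0) ^^^ encAux l (a >>> 1)) ^^^
      ((if b.testBit 0 then x else 0) ^^^ encAux l (b >>> 1))
    have h : (if (a ^^^ b).testBit 0 then x else 0)
        = (if a.testBit 0 then x else 0) ^^^ (if b.testBit 0 then x else 0) := by
      rw [Nat.testBit_xor]
      cases a.testBit 0 <;> cases b.testBit 0 <;> simp
    rw [h]
    generalize (if a.testBit 0 then x else 0) = s
    generalize (if b.testBit 0 then x else 0) = t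
    generalize encAux l (a >>> 1) = u
    generalize encAux l (b >>> 1) = v
    rw [Nat.xor_assoc, Nat.xor_assoc]
    congr 1
    rw [← Nat.xor_assoc, ← Nat.xor_assoc, Nat.xor_comm t u]

theorem enc_xor (a b : ℕ) : enc (a ^^^ b) = enc a ^^^ enc b := encAux_xor basis a b

/-- integer mask of the generator `k` (k < 23: `qrWord k`, 23: all ones), as a bitmask. -/
def genMask (k : ℕ) : ℕ :=
  if k = 23 then 0xffffff else
    ((List.range 23).map fun x => if (List.range 23).any fun r => x == (r * r + k) % 23 then 2 ^ x else 0).sum

/-- the generator words -/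
def genWord (k : ℕ) : GolayPt → ZMod 2 := if k = 23 then 1 else qrWord (k : ZMod 23)

theorem genWord_mem (k : ℕ) : genWord k ∈ golayCode := by
  unfold genWord
  split
  · exact Submodule.subset_span (Set.mem_union_right _ rfl)
  · exact Submodule.subset_span (Set.mem_union_left _ ⟨_, rfl⟩)

theorem genWord_eq (k : ℕ) (hk : k < 24) : genWord k = word (genMask k) := by
  have : ∀ k : Fin 24, ∀ p, genWord k p = word (genMask k) p := by decide +kernel
  exact funext (this ⟨k, hk⟩)

/-- XOR of generator masks selected by bits -/
def comb (c : ℕ) : ℕ :=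
  (List.range 24).foldr (fun k acc => (if c.testBit k then genMask k else 0) ^^^ acc) 0

theorem word_comb_mem (c : ℕ) : word (comb c) ∈ golayCode := by
  have : ∀ l : List ℕ, (∀ k ∈ l, k < 24) →
      word (l.foldr (fun k acc => (if c.testBit k then genMask k else 0) ^^^ acc) 0) ∈ golayCode := by
    intro l
    induction l with
    | nil => intro _; simp only [List.foldr_nil, word_zero]; exact Submodule.zero_mem _
    | cons x l ih =>
      intro h
      simp only [List.foldr_cons, word_xor]
      refine Submodule.add_mem _ ?_ (ih fun k hk => h k (List.mem_cons_of_mem _ hk))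
      split
      · rw [← genWord_eq x (h x List.mem_cons_self)]
        exact genWord_mem x
      · rw [word_zero]; exact Submodule.zero_mem _
  exact this _ (by simp)

theorem basis_mem : ∀ b ∈ basis, word b ∈ golayCode := by
  have h : ∀ b ∈ basis, ∃ c ∈ combos, comb c = b := by decide +kernel
  intro b hb
  obtain ⟨c, -, hc⟩ := h b hb
  rw [← hc]
  exact word_comb_mem c

theorem word_encAux_mem (l : List ℕ) (h : ∀ b ∈ l, word b ∈ golayCode) (c : ℕ) :
    word (encAux l c) ∈ golayCode := by
  induction l generalizing c with
  | nil => show word 0 ∈ golayCode; rw [word_zero]; exact Submodule.zero_mem _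
  | cons x l ih =>
    show word ((if c.testBit 0 then x else 0) ^^^ encAux l (c >>> 1)) ∈ golayCode
    rw [word_xor]
    refine Submodule.add_mem _ ?_ (ih (fun b hb => h b (List.mem_cons_of_mem _ hb)) _)
    split
    · exact h x List.mem_cons_self
    · rw [word_zero]; exact Submodule.zero_mem _

theorem word_enc_mem (c : ℕ) : word (enc c) ∈ golayCode := word_encAux_mem basis basis_mem c

/-- every generator is `word (enc c)` for a `c < 4096` -/
theorem gen_enc (k : ℕ) (hk : k < 24) : genMask k = enc (genMask k % 4096) := by
  have : ∀ k : Fin 24, genMask k = enc (genMask k % 4096) := by decide +kernel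
  exact this ⟨k, hk⟩

/-- Membership in the code: the word is `word (enc c)` for some `c < 4096`. -/
theorem mem_golayCode_iff (w : GolayPt → ZMod 2) :
    w ∈ golayCode ↔ ∃ c < 4096, w = word (enc c) := by
  constructor
  · intro hw
    let S : Submodule (ZMod 2) (GolayPt → ZMod 2) :=
      { carrier := {w | ∃ c < 4096, w = word (enc c)}
        zero_mem' := ⟨0, by norm_num, by rw [show enc 0 = 0 by decide +kernel, word_zero]⟩
        add_mem' := by
          rintro _ _ ⟨a, ha, rfl⟩ ⟨b, hb, rfl⟩
          exact ⟨a ^^^ b, Nat.xor_lt_two_pow (n := 12) ha hb, by rw [enc_xor, word_xor]⟩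
        smul_mem' := by
          rintro r _ ⟨a, ha, rfl⟩
          have hr : r = 0 ∨ r = 1 := by revert r; decide
          rcases hr with rfl | rfl
          · exact ⟨0, by norm_num, by rw [show enc 0 = 0 by decide +kernel, word_zero, zero_smul]⟩
          · exact ⟨a, ha, by rw [one_smul]⟩ }
    have hle : golayCode ≤ S := by
      refine Submodule.span_le.2 ?_
      rintro w (⟨t, rfl⟩ | rfl)
      · refine ⟨genMask t.val % 4096, Nat.mod_lt _ (by norm_num), ?_⟩
        have ht : t.val < 23 := ZMod.val_lt t
        rw [← gen_enc _ (by omega), ← genWord_eq _ (by omega)]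
        unfold genWord
        rw [if_neg (by omega)]
        congr 1
        exact (ZMod.natCast_zmod_val t).symm
      · refine ⟨genMask 23 % 4096, Nat.mod_lt _ (by norm_num), ?_⟩
        rw [← gen_enc _ (by omega), ← genWord_eq _ (by omega)]
        rfl
    exact hle hw
  · rintro ⟨c, -, rfl⟩
    exact word_enc_mem c

/-- sufficient test for explicit masks -/
theorem word_mem_of_test {n : ℕ} (h : enc (n % 4096) = n) : word n ∈ golayCode := by
  rw [← h]; exact word_enc_mem _

end Cfsg.Agent.LeechMat.Code
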