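import Mathlib
import Cfsg.Prelude.Def_Sporadic_a
import Cfsg.Agent.LeechMat.Code

/-!
The rank-24 lattice: membership criterion, generating set, dot products, `Co0` basics.
-/

set_option autoImplicit false

namespace Cfsg.Agent.LeechMat.Core

open Cfsg Cfsg.Agent.LeechMat.Code

/-- reduction mod 2 of an integer vector -/
def red (z : GolayPt → ℤ) : GolayPt → ZMod 2 := fun i => (z i : ZMod 2)

theorem red_apply (z : GolayPt → ℤ) (i : GolayPt) : red z i = (z i : ZMod 2) := rfl

theorem red_add (z z' : GolayPt → ℤ) : red (z + z') = red z + red z' := by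
  funext i; simp [red_apply]

theorem red_neg (z : GolayPt → ℤ) : red (-z) = red z := by
  funext i
  simp only [red_apply, Pi.neg_apply, Int.cast_neg]
  exact ZMod.neg_eq_self_mod_two _

theorem zmod2_ne_zero_iff (a : ZMod 2) : a ≠ 0 ↔ a = 1 := by revert a; decide

theorem intCast_zmod2_ne_zero (a : ℤ) : ((a : ZMod 2) ≠ 0) ↔ a % 2 = 1 := by
  rw [Ne, ZMod.intCast_zmod_eq_zero_iff_dvd]
  push_cast
  omega

theorem mem_support₂ (w : GolayPt → ZMod 2) (i : GolayPt) : i ∈ support₂ w ↔ w i ≠ 0 := by
  unfold support₂; simp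

theorem support₂_inj {w w' : GolayPt → ZMod 2} (h : support₂ w = support₂ w') : w = w' := by
  funext i
  have h1 : (w i ≠ 0) ↔ (w' i ≠ 0) := by rw [← mem_support₂, ← mem_support₂, h]
  generalize w i = a at h1
  generalize w' i = b at h1
  revert a b; decide

theorem support₂_mem_iff (w : GolayPt → ZMod 2) :
    support₂ w ∈ supports (golayCode : Set (GolayPt → ZMod 2)) ↔ w ∈ golayCode := by
  constructor
  · rintro ⟨w', hw', h⟩
    rw [← support₂_inj h]; exact hw'
  · intro h; exact ⟨w, h, rfl⟩

theorem one_mem : (1 : GolayPt → ZMod 2) ∈ golayCode :=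
  Submodule.subset_span (Set.mem_union_right _ rfl)

/-- description of the lattice by `x = m + 2 z` -/
def IsLeech (x : GolayPt → ℤ) : Prop :=
  ∃ (m : ℤ) (z : GolayPt → ℤ), (∀ i, x i = m + 2 * z i) ∧ (∑ i, z i ≡ 2 * m [ZMOD 4]) ∧
    red z ∈ golayCode

theorem sum_form (x : GolayPt → ℤ) (m : ℤ) (z : GolayPt → ℤ) (h : ∀ i, x i = m + 2 * z i) :
    ∑ i, x i = 24 * m + 2 * ∑ i, z i := by
  rw [Finset.sum_congr rfl fun i _ => h i, Finset.sum_add_distrib, Finset.sum_const,
    ← Finset.mul_sum]
  have : (Finset.univ : Finset GolayPt).card = 24 := by decide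
  rw [this]; simp

theorem isLeech_iff_mem_leechSet (x : GolayPt → ℤ) : IsLeech x ↔ x ∈ leechSet := by
  constructor
  · rintro ⟨m, z, hx, hs, hz⟩
    refine ⟨m, fun i => ?_, ?_, fun k => ?_⟩
    · rw [hx i]; unfold Int.ModEq; omega
    · rw [sum_form x m z hx]
      unfold Int.ModEq at hs ⊢; omega
    · by_cases h1 : k % 2 = m % 2
      · by_cases h2 : k % 4 = m % 4
        · have : (Finset.univ.filter fun i => x i ≡ k [ZMOD 4]) = support₂ (1 + red z) := by
            ext i
            rw [mem_support₂, Finset.mem_filter]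
            have h3 : ((1 : GolayPt → ZMod 2) + red z) i = ((1 + z i : ℤ) : ZMod 2) := by
              simp [red_apply]
            rw [h3, intCast_zmod2_ne_zero, hx i]
            unfold Int.ModEq
            simp only [Finset.mem_univ, true_and]
            omega
          rw [this, support₂_mem_iff]
          exact Submodule.add_mem _ one_mem hz
        · have : (Finset.univ.filter fun i => x i ≡ k [ZMOD 4]) = support₂ (red z) := by
            ext i
            rw [mem_support₂, Finset.mem_filter, red_apply, intCast_zmod2_ne_zero, hx i]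
            unfold Int.ModEq
            simp only [Finset.mem_univ, true_and]
            omega
          rw [this, support₂_mem_iff]
          exact hz
      · have : (Finset.univ.filter fun i => x i ≡ k [ZMOD 4]) = support₂ (0 : GolayPt → ZMod 2) := by
          ext i
          rw [mem_support₂, Finset.mem_filter, hx i]
          unfold Int.ModEq
          simp only [Finset.mem_univ, true_and, Pi.zero_apply, ne_eq, not_true_eq_false, iff_false]
          omega
        rw [this, support₂_mem_iff]
        exact Submodule.zero_mem _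
  · rintro ⟨m, h1, h2, h3⟩
    have h4 : ∀ i, x i = m + 2 * ((x i - m) / 2) := by
      intro i
      have := h1 i
      unfold Int.ModEq at this
      omega
    refine ⟨m, fun i => (x i - m) / 2, h4, ?_, ?_⟩
    · have h5 : ∑ i, x i = 24 * m + 2 * ∑ i, (x i - m) / 2 := sum_form x m _ h4
      show ∑ i, (x i - m) / 2 ≡ 2 * m [ZMOD 4]
      unfold Int.ModEq at h2 ⊢
      omega
    · rw [← support₂_mem_iff]
      convert h3 (m + 2) using 1
      ext i
      rw [mem_support₂, Finset.mem_filter, red_apply, intCast_zmod2_ne_zero]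
      have := h4 i
      unfold Int.ModEq
      simp only [Finset.mem_univ, true_and]
      omega

theorem IsLeech.add {x y : GolayPt → ℤ} (hx : IsLeech x) (hy : IsLeech y) : IsLeech (x + y) := by
  obtain ⟨m, z, h1, h2, h3⟩ := hx
  obtain ⟨m', z', h1', h2', h3'⟩ := hy
  refine ⟨m + m', z + z', fun i => ?_, ?_, ?_⟩
  · rw [Pi.add_apply, Pi.add_apply, h1, h1']; ring
  · rw [show ∑ i, (z + z') i = ∑ i, z i + ∑ i, z' i from Finset.sum_add_distrib]
    have := h2.add h2'
    rwa [← mul_add] at this
  · rw [red_add]; exact Submodule.add_mem _ h3 h3'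

theorem IsLeech.neg {x : GolayPt → ℤ} (hx : IsLeech x) : IsLeech (-x) := by
  obtain ⟨m, z, h1, h2, h3⟩ := hx
  refine ⟨-m, -z, fun i => ?_, ?_, ?_⟩
  · rw [Pi.neg_apply, Pi.neg_apply, h1]; ring
  · rw [show ∑ i, (-z) i = -∑ i, z i from Finset.sum_neg_distrib _]
    have := h2.neg
    rwa [← mul_neg] at this
  · rw [red_neg]; exact h3

theorem IsLeech.zero : IsLeech 0 :=
  ⟨0, 0, by simp, by simp [Int.ModEq], by
    have : red 0 = 0 := by funext i; simp [red_apply]
    rw [this]; exact Submodule.zero_mem _⟩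

/-- Membership in the lattice. -/
theorem mem_leech_iff (x : GolayPt → ℤ) : x ∈ leechLattice ↔ IsLeech x := by
  constructor
  · intro h
    let S : AddSubgroup (GolayPt → ℤ) :=
      { carrier := {x | IsLeech x}
        zero_mem' := IsLeech.zero
        add_mem' := fun h h' => IsLeech.add h h'
        neg_mem' := fun h => IsLeech.neg h }
    have hle : leechLattice ≤ S := by
      refine (AddSubgroup.closure_le S).2 fun y hy => ?_
      exact (isLeech_iff_mem_leechSet y).2 hy
    exact hle h
  · intro h
    exact AddSubgroup.subset_closure ((isLeech_iff_mem_leechSet x).1 h)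

theorem mem_leech_iff_leechSet (x : GolayPt → ℤ) : x ∈ leechLattice ↔ x ∈ leechSet := by
  rw [mem_leech_iff, isLeech_iff_mem_leechSet]

/-! ### dot products -/

theorem sqNorm_eq_dotInt (x : GolayPt → ℤ) : sqNorm x = dotInt x x := by
  unfold sqNorm dotInt
  exact Finset.sum_congr rfl fun i _ => by ring

theorem dotInt_add_left (x y z : GolayPt → ℤ) : dotInt (x + y) z = dotInt x z + dotInt y z := by
  unfold dotInt
  rw [← Finset.sum_add_distrib]
  exact Finset.sum_congr rfl fun i _ => by rw [Pi.add_apply]; ring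

theorem dotInt_comm (x y : GolayPt → ℤ) : dotInt x y = dotInt y x := by
  unfold dotInt
  exact Finset.sum_congr rfl fun i _ => by ring

theorem dotInt_add_right (x y z : GolayPt → ℤ) : dotInt x (y + z) = dotInt x y + dotInt x z := by
  rw [dotInt_comm, dotInt_add_left, dotInt_comm y, dotInt_comm z]

theorem dotInt_neg_left (x y : GolayPt → ℤ) : dotInt (-x) y = -dotInt x y := by
  unfold dotInt
  rw [← Finset.sum_neg_distrib]
  exact Finset.sum_congr rfl fun i _ => by rw [Pi.neg_apply]; ring

theorem dotInt_neg_right (x y : GolayPt → ℤ) : dotInt x (-y) = -dotInt x y := by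
  rw [dotInt_comm, dotInt_neg_left, dotInt_comm]

theorem dotInt_sub_left (x y z : GolayPt → ℤ) : dotInt (x - y) z = dotInt x z - dotInt y z := by
  rw [sub_eq_add_neg, dotInt_add_left, dotInt_neg_left]; ring

theorem dotInt_sub_right (x y z : GolayPt → ℤ) : dotInt x (y - z) = dotInt x y - dotInt x z := by
  rw [sub_eq_add_neg, dotInt_add_right, dotInt_neg_right]; ring

theorem dotInt_smul_left (c : ℤ) (x y : GolayPt → ℤ) : dotInt (c • x) y = c * dotInt x y := by
  unfold dotInt
  rw [Finset.mul_sum]
  exact Finset.sum_congr rfl fun i _ => by rw [Pi.smul_apply, smul_eq_mul]; ring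

theorem dotInt_smul_right (c : ℤ) (x y : GolayPt → ℤ) : dotInt x (c • y) = c * dotInt x y := by
  rw [dotInt_comm, dotInt_smul_left, dotInt_comm]

theorem sqNorm_add (x y : GolayPt → ℤ) : sqNorm (x + y) = sqNorm x + 2 * dotInt x y + sqNorm y := by
  rw [sqNorm_eq_dotInt, sqNorm_eq_dotInt, sqNorm_eq_dotInt, dotInt_add_left, dotInt_add_right,
    dotInt_add_right, dotInt_comm y x]; ring

theorem sqNorm_sub (x y : GolayPt → ℤ) : sqNorm (x - y) = sqNorm x - 2 * dotInt x y + sqNorm y := by
  rw [sqNorm_eq_dotInt, sqNorm_eq_dotInt, sqNorm_eq_dotInt, dotInt_sub_left, dotInt_sub_right,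
    dotInt_sub_right, dotInt_comm y x]; ring

theorem sqNorm_neg (x : GolayPt → ℤ) : sqNorm (-x) = sqNorm x := by
  rw [sqNorm_eq_dotInt, sqNorm_eq_dotInt, dotInt_neg_left, dotInt_neg_right]; ring

theorem sqNorm_smul (c : ℤ) (x : GolayPt → ℤ) : sqNorm (c • x) = c ^ 2 * sqNorm x := by
  rw [sqNorm_eq_dotInt, sqNorm_eq_dotInt, dotInt_smul_left, dotInt_smul_right]; ring

theorem sqNorm_nonneg (x : GolayPt → ℤ) : 0 ≤ sqNorm x := by
  unfold sqNorm
  exact Finset.sum_nonneg fun i _ => sq_nonneg _

theorem sqNorm_eq_zero {x : GolayPt → ℤ} (h : sqNorm x = 0) : x = 0 := by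
  unfold sqNorm at h
  rw [Finset.sum_eq_zero_iff_of_nonneg fun i _ => sq_nonneg _] at h
  funext i
  exact pow_eq_zero_iff (two_ne_zero) |>.1 (h i (Finset.mem_univ i))

theorem sq_le_sqNorm (x : GolayPt → ℤ) (i : GolayPt) : x i ^ 2 ≤ sqNorm x := by
  unfold sqNorm
  exact Finset.single_le_sum (f := fun i => x i ^ 2) (fun j _ => sq_nonneg _) (Finset.mem_univ i)

/-! ### the group `Co0` -/

theorem co0_smul_def (g : Co0) (x : leechLattice) : g • x = (g : Equiv.Perm leechLattice) x := rfl

theorem co0_smul_add (g : Co0) (x y : leechLattice) : g • (x + y) = g • x + g • y :=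
  g.2.1 x y

theorem co0_sqNorm (g : Co0) (x : leechLattice) :
    sqNorm ((g • x : leechLattice) : GolayPt → ℤ) = sqNorm (x : GolayPt → ℤ) :=
  g.2.2 x

theorem co0_smul_zero (g : Co0) : g • (0 : leechLattice) = 0 := by
  have := co0_smul_add g 0 0
  rw [add_zero] at this
  simpa using this

theorem co0_smul_neg (g : Co0) (x : leechLattice) : g • (-x) = -(g • x) := by
  have := co0_smul_add g x (-x)
  rw [add_neg_cancel, co0_smul_zero] at this
  exact (neg_eq_of_add_eq_zero_right this.symm).symm

theorem co0_smul_sub (g : Co0) (x y : leechLattice) : g • (x - y) = g • x - g • y := by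
  rw [sub_eq_add_neg, co0_smul_add, co0_smul_neg, ← sub_eq_add_neg]

theorem co0_dotInt (g : Co0) (x y : leechLattice) :
    dotInt ((g • x : leechLattice) : GolayPt → ℤ) ((g • y : leechLattice) : GolayPt → ℤ)
      = dotInt (x : GolayPt → ℤ) (y : GolayPt → ℤ) := by
  have h := co0_sqNorm g (x + y)
  rw [co0_smul_add, AddSubgroup.coe_add, AddSubgroup.coe_add, sqNorm_add, sqNorm_add,
    co0_sqNorm, co0_sqNorm] at h
  linarith

end Cfsg.Agent.LeechMat.Core
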