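import Mathlib
import Cfsg.Prelude.Def_Sporadic_a
import Cfsg.Agent.LeechMat.Core

/-!
A generating set of the rank-24 lattice, as an induction principle.
-/

set_option autoImplicit false

namespace Cfsg.Agent.LeechMat.Gen

open Cfsg Cfsg.Agent.LeechMat.Code Cfsg.Agent.LeechMat.Core

/-- `4 e_i + 4 e_∞` (which is `8 e_∞` for `i = ∞`) -/
def gA (i : GolayPt) : GolayPt → ℤ := Pi.single i 4 + Pi.single none 4

/-- `(-3, 1^23)` -/
def gS : GolayPt → ℤ := fun i => if i = none then -3 else 1

/-- `2` on the support of the mask `b` -/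
def gB (b : ℕ) : GolayPt → ℤ := fun i => if b.testBit (pos i) then 2 else 0

/-- 0/1 integer vector of a mask -/
def ind (b : ℕ) : GolayPt → ℤ := fun i => if b.testBit (pos i) then 1 else 0

theorem red_ind (b : ℕ) : red (ind b) = word b := by
  funext i
  rw [red_apply, word_apply]
  unfold ind
  split <;> simp

theorem gB_eq (b : ℕ) : gB b = (2 : ℤ) • ind b := by
  funext i
  rw [Pi.smul_apply, smul_eq_mul]
  unfold gB ind
  split <;> simp

theorem sum_ind_basis : ∀ b ∈ basis, ∑ i, ind b i ≡ 0 [ZMOD 4] := by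
  decide +kernel

theorem exists_lift (S : AddSubgroup (GolayPt → ℤ)) (l : List ℕ)
    (h1 : ∀ b ∈ l, (2 : ℤ) • ind b ∈ S) (h2 : ∀ b ∈ l, ∑ i, ind b i ≡ 0 [ZMOD 4]) (c : ℕ) :
    ∃ y : GolayPt → ℤ, (2 : ℤ) • y ∈ S ∧ red y = word (encAux l c) ∧ ∑ i, y i ≡ 0 [ZMOD 4] := by
  induction l generalizing c with
  | nil =>
    refine ⟨0, by simp, ?_, by simp [Int.ModEq]⟩
    show red 0 = word 0
    rw [word_zero]; funext i; simp [red_apply]
  | cons x l ih =>
    obtain ⟨y, hy1, hy2, hy3⟩ := ih (fun b hb => h1 b (List.mem_cons_of_mem _ hb))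
      (fun b hb => h2 b (List.mem_cons_of_mem _ hb)) (c >>> 1)
    show ∃ y, (2 : ℤ) • y ∈ S ∧
      red y = word ((if c.testBit 0 then x else 0) ^^^ encAux l (c >>> 1)) ∧ _
    split
    · refine ⟨ind x + y, ?_, ?_, ?_⟩
      · rw [smul_add]; exact S.add_mem (h1 x List.mem_cons_self) hy1
      · rw [red_add, red_ind, word_xor, hy2]
      · rw [show ∑ i, (ind x + y) i = ∑ i, ind x i + ∑ i, y i from Finset.sum_add_distrib]
        exact (h2 x List.mem_cons_self).add hy3
    · exact ⟨y, hy1, by rw [Nat.zero_xor, hy2], hy3⟩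

theorem sum_single (v : ℤ) (j : GolayPt) : ∑ i, (Pi.single j v : GolayPt → ℤ) i = v := by
  rw [Finset.sum_pi_single']; simp

/-- the lattice is contained in any subgroup containing the 37 vectors -/
theorem leech_le (S : AddSubgroup (GolayPt → ℤ)) (hA : ∀ i, gA i ∈ S) (hS : gS ∈ S)
    (hB : ∀ b ∈ basis, gB b ∈ S) : leechLattice ≤ S := by
  intro x hx
  obtain ⟨m, z, h1, h2, h3⟩ := (mem_leech_iff x).1 hx
  obtain ⟨c, -, hc⟩ := (mem_golayCode_iff _).1 h3
  obtain ⟨y, hy1, hy2, hy3⟩ := exists_lift S basis (fun b hb => by rw [← gB_eq]; exact hB b hb)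
    sum_ind_basis c
  -- z' = z + 2 m e_∞
  have h5 : ∀ i, ∃ t : ℤ, z i + (Pi.single none (2 * m) : GolayPt → ℤ) i - y i = 2 * t := by
    intro i
    have h6 : red z i = red y i := by
      rw [hc, hy2]; rfl
    rw [red_apply, red_apply, ZMod.intCast_eq_intCast_iff] at h6
    have h7 : ∃ r : ℤ, (Pi.single none (2 * m) : GolayPt → ℤ) i = 2 * r := by
      by_cases hi : i = none
      · subst hi; exact ⟨m, by simp⟩
      · exact ⟨0, by rw [Pi.single_eq_of_ne hi]; simp⟩
    obtain ⟨r, hr⟩ := h7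
    rw [hr]
    unfold Int.ModEq at h6
    push_cast at h6
    exact ⟨(z i + 2 * r - y i) / 2, by omega⟩
  choose t ht using h5
  have hsum : ∑ i, z i + 2 * m - ∑ i, y i = 2 * ∑ i, t i := by
    have : ∑ i, (z i + (Pi.single none (2 * m) : GolayPt → ℤ) i - y i) = ∑ i, 2 * t i :=
      Finset.sum_congr rfl fun i _ => ht i
    rw [Finset.sum_sub_distrib, Finset.sum_add_distrib, sum_single, ← Finset.mul_sum] at this
    exact this
  have heven : ∃ r : ℤ, ∑ i, t i = 2 * r := by
    unfold Int.ModEq at h2 hy3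
    exact ⟨(∑ i, t i) / 2, by omega⟩
  obtain ⟨r, hr⟩ := heven
  have key : x = m • gS + (2 : ℤ) • y + ∑ i, t i • gA i - r • gA none := by
    funext p
    have hp : (∑ i, t i • gA i) p = 4 * t p + (Pi.single none (4 * (∑ i, t i)) : GolayPt → ℤ) p := by
      rw [Finset.sum_apply]
      have : ∀ i, (t i • gA i) p = (if p = i then 4 * t i else 0)
          + (if p = none then 4 * t i else 0) := by
        intro i
        rw [Pi.smul_apply, smul_eq_mul]
        unfold gA
        rw [Pi.add_apply, Pi.single_apply, Pi.single_apply]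
        split <;> split <;> ring
      rw [Finset.sum_congr rfl fun i _ => this i, Finset.sum_add_distrib, Pi.single_apply]
      congr 1
      · rw [Finset.sum_ite_eq]; simp
      · split
        · rw [Finset.mul_sum]
        · simp
    rw [Pi.sub_apply, Pi.add_apply, Pi.add_apply, hp, Pi.smul_apply, Pi.smul_apply, Pi.smul_apply,
      h1 p, smul_eq_mul, smul_eq_mul, smul_eq_mul]
    have h8 := ht p
    rw [Pi.single_apply] at h8 ⊢
    unfold gS gA
    rw [Pi.add_apply, Pi.single_apply]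
    by_cases hpn : p = none
    · rw [if_pos hpn] at h8 ⊢
      rw [if_pos hpn, if_pos hpn]
      linarith
    · rw [if_neg hpn] at h8 ⊢
      rw [if_neg hpn, if_neg hpn]
      linarith
  rw [key]
  refine S.sub_mem (S.add_mem (S.add_mem (S.zsmul_mem hS m) hy1) ?_) (S.zsmul_mem (hA none) r)
  exact S.sum_mem fun i _ => S.zsmul_mem (hA i) (t i)

end Cfsg.Agent.LeechMat.Gen
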