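import Mathlib
import Cfsg.Prelude.Def_Sporadic_a
import Cfsg.Agent.LeechMat.Gen

/-!
Explicit elements of `Co0` from integer matrices, with a kernel-friendly check.

A vector with coordinates in `[-16, 16)` is coded by a natural number with 24 base-32 digits:
`vec n p = dig n (pos p) - 16`.  A matrix is a list of 24 such codes (its columns, in the order
of positions: `0..22` the residues, `23` the extra point).
-/

set_option autoImplicit false

namespace Cfsg.Agent.LeechMat.Elements

open Cfsg Cfsg.Agent.LeechMat.Code Cfsg.Agent.LeechMat.Core Cfsg.Agent.LeechMat.Gen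

/-! ### sums over the 24 points -/

/-- sum over `k < n`, structurally recursive -/
def sumTo (F : ℕ → ℤ) : ℕ → ℤ
  | 0 => 0
  | k + 1 => sumTo F k + F k

theorem sumTo_eq (F : ℕ → ℤ) (n : ℕ) : sumTo F n = ∑ k ∈ Finset.range n, F k := by
  induction n with
  | zero => rfl
  | succ n ih => rw [Finset.sum_range_succ, ← ih]; rfl

theorem sum_points (F : ℕ → ℤ) : ∑ p : GolayPt, F (pos p) = ∑ k ∈ Finset.range 24, F k := by
  refine Finset.sum_bij (fun p _ => pos p) (fun p _ => Finset.mem_range.2 (pos_lt p))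
    (fun p _ q _ h => pos_inj h) (fun k hk => ⟨pt k, Finset.mem_univ _, pos_pt k (Finset.mem_range.1 hk)⟩)
    (fun p _ => rfl)

theorem sum_points' (f : GolayPt → ℤ) : ∑ p : GolayPt, f p = ∑ k ∈ Finset.range 24, f (pt k) := by
  rw [← sum_points (fun k => f (pt k))]
  exact Finset.sum_congr rfl fun p _ => by rw [pt_pos]

/-! ### coded vectors -/

/-- base-32 digit -/
def dig (n k : ℕ) : ℕ := (n >>> (5 * k)) % 32

theorem dig_lt (n k : ℕ) : dig n k < 32 := Nat.mod_lt _ (by norm_num)

theorem dig_zero (n : ℕ) : dig n 0 = n % 32 := rfl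

theorem dig_shift (n k : ℕ) : dig (n >>> 5) k = dig n (k + 1) := by
  unfold dig
  rw [← Nat.shiftRight_add]
  congr 2
  ring

/-- signed digit -/
def sdig (n k : ℕ) : ℤ := (dig n k : ℤ) - 16

theorem sdig_bounds (n k : ℕ) : -16 ≤ sdig n k ∧ sdig n k < 16 := by
  have := dig_lt n k
  unfold sdig; omega

theorem sdig_shift (n k : ℕ) : sdig (n >>> 5) k = sdig n (k + 1) := by
  unfold sdig; rw [dig_shift]

/-- the vector coded by `n` -/
def vec (n : ℕ) : GolayPt → ℤ := fun p => sdig n (pos p)

theorem vec_apply (n : ℕ) (p : GolayPt) : vec n p = sdig n (pos p) := rfl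

/-- dot product of coded vectors -/
def dotc (a b : ℕ) : ℤ := sumTo (fun k => sdig a k * sdig b k) 24

theorem dotc_eq (a b : ℕ) : dotc a b = dotInt (vec a) (vec b) := by
  unfold dotc dotInt
  rw [sumTo_eq, ← sum_points fun k => sdig a k * sdig b k]
  rfl

/-- all `k < n` satisfy the test -/
def allTo (F : ℕ → Bool) : ℕ → Bool
  | 0 => true
  | k + 1 => F k && allTo F k

theorem allTo_iff (F : ℕ → Bool) (n : ℕ) : allTo F n = true ↔ ∀ k < n, F k = true := by
  induction n with
  | zero => exact ⟨fun _ k hk => absurd hk (Nat.not_lt_zero k), fun _ => rfl⟩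
  | succ n ih =>
    show (F n && allTo F n) = true ↔ _
    rw [Bool.and_eq_true, ih]
    constructor
    · rintro ⟨h1, h2⟩ k hk
      rcases Nat.lt_succ_iff_lt_or_eq.1 hk with h | rfl
      · exact h2 k h
      · exact h1
    · intro h
      exact ⟨h n (Nat.lt_succ_self n), fun k hk => h k (Nat.lt_succ_of_lt hk)⟩

/-- mask of the second bits of the digits -/
def maskc (n : ℕ) : ℕ → ℕ
  | 0 => 0
  | k + 1 => maskc n k ||| (((n >>> (5 * k + 1)) &&& 1) <<< k)

theorem maskc_testBit (n m k : ℕ) :
    (maskc n m).testBit k = (decide (k < m) && n.testBit (5 * k + 1)) := by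
  induction m with
  | zero => simp [maskc]
  | succ m ih =>
    show (maskc n m ||| (((n >>> (5 * m + 1)) &&& 1) <<< m)).testBit k = _
    rw [Nat.testBit_or, ih, Nat.testBit_shiftLeft, Nat.testBit_and, Nat.testBit_shiftRight]
    by_cases h1 : k < m
    · have h2 : ¬ (m ≤ k) := by omega
      have h3 : k < m + 1 := by omega
      simp [h1, h2, h3]
    · by_cases h2 : k = m
      · subst h2
        simp
      · have h3 : ¬ (k < m + 1) := by omega
        have h4 : (1 : ℕ).testBit (k - m) = false := by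
          rw [← Bool.not_eq_true, Nat.testBit_one_eq_true_iff_self_eq_zero]
          omega
        simp [h1, h3, h4]

theorem testBit_eq_dig (n k : ℕ) : n.testBit (5 * k + 1) = decide (dig n k / 2 % 2 = 1) := by
  unfold dig
  have h1 : n.testBit (5 * k + 1) = (n >>> (5 * k)).testBit 1 := by
    rw [Nat.testBit_shiftRight]
  rw [h1, Nat.testBit_succ, Nat.testBit_zero]
  congr 1
  generalize n >>> (5 * k) = a
  apply propext
  omega

/-- test for membership of a coded vector in the lattice -/
def isLeech (n : ℕ) : Bool :=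
  allTo (fun k => dig n k % 2 == n % 2) 24 &&
    ((sumTo (fun k => ((dig n k : ℤ) - (n % 2 : ℕ)) / 2 - 8) 24 - 2 * (n % 2 : ℕ)) % 4 == 0) &&
    (enc (maskc n 24 % 4096) == maskc n 24)

theorem isLeech_sound {n : ℕ} (h : isLeech n = true) : vec n ∈ leechLattice := by
  unfold isLeech at h
  rw [Bool.and_eq_true, Bool.and_eq_true, allTo_iff, beq_iff_eq, beq_iff_eq] at h
  obtain ⟨⟨h1, h2⟩, h3⟩ := h
  rw [mem_leech_iff]
  refine ⟨(n % 2 : ℕ), fun p => ((dig n (pos p) : ℤ) - (n % 2 : ℕ)) / 2 - 8, fun p => ?_, ?_, ?_⟩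
  · have := h1 (pos p) (pos_lt p)
    rw [beq_iff_eq] at this
    rw [vec_apply]
    unfold sdig
    show (dig n (pos p) : ℤ) - 16 = (n % 2 : ℕ) + 2 * (((dig n (pos p) : ℤ) - (n % 2 : ℕ)) / 2 - 8)
    omega
  · rw [sumTo_eq, ← sum_points fun k => ((dig n k : ℤ) - (n % 2 : ℕ)) / 2 - 8] at h2
    show ∑ p : GolayPt, (((dig n (pos p) : ℤ) - (n % 2 : ℕ)) / 2 - 8) ≡ _ [ZMOD 4]
    unfold Int.ModEq
    omega
  · have h4 : red (fun p => ((dig n (pos p) : ℤ) - (n % 2 : ℕ)) / 2 - 8) = word (maskc n 24) := by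
      funext p
      rw [red_apply, word_apply, maskc_testBit, testBit_eq_dig]
      have h5 := h1 (pos p) (pos_lt p)
      rw [beq_iff_eq] at h5
      have h6 : pos p < 24 := pos_lt p
      simp only [h6, decide_true, Bool.true_and, decide_eq_true_eq]
      have h7 : (((dig n (pos p) : ℤ) - (n % 2 : ℕ)) / 2 - 8 : ℤ) =
          ((dig n (pos p) / 2 : ℕ) : ℤ) - 8 := by
        omega
      rw [h7]
      by_cases h8 : dig n (pos p) / 2 % 2 = 1
      · rw [if_pos h8]
        have h9 : (((dig n (pos p) / 2 : ℕ) : ℤ) - 8) = 1 + 2 * (((dig n (pos p) / 2 : ℕ) : ℤ) / 2 - 4) := by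
          omega
        rw [h9]
        push_cast
        have : (2 : ZMod 2) = 0 := by decide
        rw [this]; ring
      · rw [if_neg h8]
        have h9 : (((dig n (pos p) / 2 : ℕ) : ℤ) - 8) = 2 * (((dig n (pos p) / 2 : ℕ) : ℤ) / 2 - 4) := by
          omega
        rw [h9]
        push_cast
        have : (2 : ZMod 2) = 0 := by decide
        rw [this]; ring
    rw [h4]
    exact word_mem_of_test h3

/-! ### matrices -/

/-- matrix (list of 24 column codes) times vector -/
def mv (A : List ℕ) (x : GolayPt → ℤ) : GolayPt → ℤ :=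
  fun i => ∑ j, x j * vec (A.getD (pos j) 0) i

theorem mv_add (A : List ℕ) (x y : GolayPt → ℤ) : mv A (x + y) = mv A x + mv A y := by
  funext i
  show ∑ j, (x + y) j * _ = ∑ j, x j * _ + ∑ j, y j * _
  rw [← Finset.sum_add_distrib]
  exact Finset.sum_congr rfl fun j _ => by rw [Pi.add_apply]; ring

theorem mv_neg (A : List ℕ) (x : GolayPt → ℤ) : mv A (-x) = -mv A x := by
  funext i
  show ∑ j, (-x) j * _ = -∑ j, x j * _
  rw [← Finset.sum_neg_distrib]
  exact Finset.sum_congr rfl fun j _ => by rw [Pi.neg_apply]; ring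

theorem mv_zero (A : List ℕ) : mv A 0 = 0 := by
  funext i
  show ∑ j, (0 : GolayPt → ℤ) j * _ = 0
  exact Finset.sum_eq_zero fun j _ => by simp

/-- columns are orthogonal of norm `d²` -/
def orth (d : ℕ) (A : List ℕ) : Bool :=
  allTo (fun j => allTo (fun k => dotc (A.getD j 0) (A.getD k 0) == if j = k then (d : ℤ) ^ 2 else 0) 24) 24

theorem dotInt_mv {d : ℕ} {A : List ℕ} (h : orth d A = true) (x y : GolayPt → ℤ) :
    dotInt (mv A x) (mv A y) = (d : ℤ) ^ 2 * dotInt x y := by
  unfold orth at h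
  rw [allTo_iff] at h
  have h' : ∀ j k : GolayPt, ∑ i, vec (A.getD (pos j) 0) i * vec (A.getD (pos k) 0) i
      = if j = k then (d : ℤ) ^ 2 else 0 := by
    intro j k
    have h1 := h (pos j) (pos_lt j)
    rw [allTo_iff] at h1
    have h2 := h1 (pos k) (pos_lt k)
    rw [beq_iff_eq, dotc_eq] at h2
    have h3 : (pos j = pos k) ↔ (j = k) := ⟨pos_inj, fun h => by rw [h]⟩
    simp only [h3] at h2
    exact h2
  unfold dotInt mv
  have e1 : ∀ i, (∑ j, x j * vec (A.getD (pos j) 0) i) * (∑ k, y k * vec (A.getD (pos k) 0) i)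
      = ∑ j, ∑ k, (x j * y k) * (vec (A.getD (pos j) 0) i * vec (A.getD (pos k) 0) i) := by
    intro i
    rw [Finset.sum_mul_sum]
    exact Finset.sum_congr rfl fun j _ => Finset.sum_congr rfl fun k _ => by ring
  rw [Finset.sum_congr rfl fun i _ => e1 i, Finset.sum_comm, Finset.mul_sum]
  refine Finset.sum_congr rfl fun j _ => ?_
  rw [Finset.sum_comm]
  have e2 : ∀ k, ∑ i, (x j * y k) * (vec (A.getD (pos j) 0) i * vec (A.getD (pos k) 0) i)
      = if j = k then (d : ℤ) ^ 2 * (x j * y k) else 0 := by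
    intro k
    rw [← Finset.mul_sum, h' j k]
    split <;> ring
  rw [Finset.sum_congr rfl fun k _ => e2 k, Finset.sum_ite_eq]
  simp

/-- coordinate `k` of the image of the vector coded by `b` -/
def mvAt : List ℕ → ℕ → ℕ → ℤ
  | [], _, _ => 0
  | a :: A, b, k => sdig b 0 * sdig a k + mvAt A (b >>> 5) k

theorem mvAt_eq (A : List ℕ) (b k : ℕ) :
    mvAt A b k = ∑ j ∈ Finset.range A.length, sdig b j * sdig (A.getD j 0) k := by
  induction A generalizing b with
  | nil => rfl
  | cons a A ih =>
    show sdig b 0 * sdig a k + mvAt A (b >>> 5) k = _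
    rw [ih, List.length_cons, Finset.sum_range_succ', add_comm]
    congr 1
    refine Finset.sum_congr rfl fun j _ => ?_
    rw [sdig_shift]
    rfl

theorem mv_vec {A : List ℕ} (hA : A.length = 24) (b : ℕ) (p : GolayPt) :
    mv A (vec b) p = mvAt A b (pos p) := by
  rw [mvAt_eq, hA, ← sum_points fun j => sdig b j * sdig (A.getD j 0) (pos p)]
  rfl

/-- code of the zero vector -/
def Z0 : ℕ := 0x842108421084210842108421084210

/-- codes of `gA` -/
def cA (k : ℕ) : ℕ := Z0 + (4 <<< (5 * k)) + (4 <<< 115)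

/-- code of `gS` -/
def cS : ℕ := 0x6c6318c6318c6318c6318c6318c631

/-- digits 2 at the support of `b` -/
def twos (b : ℕ) : ℕ → ℕ
  | 0 => 0
  | k + 1 => twos b k + (if b.testBit k then 2 <<< (5 * k) else 0)

/-- codes of `gB` -/
def cB (b : ℕ) : ℕ := Z0 + twos b 24

theorem vec_cA (i : GolayPt) : vec (cA (pos i)) = gA i := by
  have : ∀ i p, vec (cA (pos i)) p = gA i p := by decide +kernel
  exact funext (this i)

theorem vec_cS : vec cS = gS := by
  have : ∀ p, vec cS p = gS p := by decide +kernel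
  exact funext this

theorem vec_cB : ∀ b ∈ basis, vec (cB b) = gB b := by
  have : ∀ b ∈ basis, ∀ p, vec (cB b) p = gB b p := by decide +kernel
  exact fun b hb => funext (this b hb)

/-- codes of the 37 generators of the lattice -/
def genCodes : List ℕ := (List.range 24).map cA ++ cS :: basis.map cB

theorem leech_le' (S : AddSubgroup (GolayPt → ℤ)) (h : ∀ b ∈ genCodes, vec b ∈ S) :
    leechLattice ≤ S := by
  refine leech_le S (fun i => ?_) ?_ (fun b hb => ?_)
  · rw [← vec_cA]
    exact h _ (List.mem_append_left _ (List.mem_map.2 ⟨pos i, List.mem_range.2 (pos_lt i), rfl⟩))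
  · rw [← vec_cS]
    exact h _ (List.mem_append_right _ List.mem_cons_self)
  · rw [← vec_cB b hb]
    exact h _ (List.mem_append_right _ (List.mem_cons_of_mem _ (List.mem_map.2 ⟨b, hb, rfl⟩)))

/-- `A` maps the vectors coded by the first list to `d` times the lattice vectors coded by the
second list -/
def maps (d : ℕ) (A : List ℕ) : List ℕ → List ℕ → Bool
  | [], _ => true
  | _ :: _, [] => false
  | b :: bs, y :: ys =>
    allTo (fun k => mvAt A b k == (d : ℤ) * sdig y k) 24 && isLeech y && maps d A bs ys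

theorem maps_sound {d : ℕ} {A : List ℕ} (hA : A.length = 24) {bs ys : List ℕ}
    (h : maps d A bs ys = true) : ∀ b ∈ bs, ∃ y ∈ leechLattice, mv A (vec b) = (d : ℤ) • y := by
  induction bs generalizing ys with
  | nil => intro b hb; exact absurd hb (List.not_mem_nil)
  | cons b bs ih =>
    cases ys with
    | nil => exact absurd h (by simp [maps])
    | cons y ys =>
      have h' : (allTo (fun k => mvAt A b k == (d : ℤ) * sdig y k) 24 && isLeech y &&
        maps d A bs ys) = true := h
      rw [Bool.and_eq_true, Bool.and_eq_true, allTo_iff] at h'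
      obtain ⟨⟨h1, h2⟩, h3⟩ := h'
      intro c hc
      rcases List.mem_cons.1 hc with rfl | hc
      · refine ⟨vec y, isLeech_sound h2, ?_⟩
        funext p
        have := h1 (pos p) (pos_lt p)
        rw [beq_iff_eq] at this
        rw [mv_vec hA, this]
        rfl
      · exact ih h3 c hc

/-- full check of a matrix -/
def checkMat (d : ℕ) (A ys : List ℕ) : Bool :=
  (A.length == 24) && (Nat.blt 0 d) && orth d A && maps d A genCodes ys

theorem finite_norm (N : ℤ) : {x : leechLattice | sqNorm (x : GolayPt → ℤ) = N}.Finite := by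
  have h : (Set.Icc (fun _ => -N) (fun _ => N) : Set (GolayPt → ℤ)).Finite := Set.finite_Icc _ _
  refine Set.Finite.of_finite_image (f := fun x : leechLattice => (x : GolayPt → ℤ))
    (h.subset ?_) Subtype.val_injective.injOn
  rintro _ ⟨x, hx, rfl⟩
  have hx' : sqNorm (x : GolayPt → ℤ) = N := hx
  refine ⟨fun i => ?_, fun i => ?_⟩
  · have := sq_le_sqNorm (x : GolayPt → ℤ) i
    rw [hx'] at this
    show -N ≤ (x : GolayPt → ℤ) i
    nlinarith [sq_nonneg ((x : GolayPt → ℤ) i + 1), sq_nonneg ((x : GolayPt → ℤ) i)]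
  · have := sq_le_sqNorm (x : GolayPt → ℤ) i
    rw [hx'] at this
    show (x : GolayPt → ℤ) i ≤ N
    nlinarith [sq_nonneg ((x : GolayPt → ℤ) i - 1), sq_nonneg ((x : GolayPt → ℤ) i)]

/-- an additive norm-preserving self-map of the lattice is an element of `Co0` -/
theorem exists_co0_of_map (f : leechLattice → leechLattice) (hadd : ∀ x y, f (x + y) = f x + f y)
    (hnorm : ∀ x, sqNorm (f x : GolayPt → ℤ) = sqNorm (x : GolayPt → ℤ)) :
    ∃ g : Co0, ∀ x : leechLattice, g • x = f x := by
  have hneg : ∀ x, f (-x) = -f x := by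
    intro x
    have h0 : f 0 = 0 := by
      have := hadd 0 0
      rw [add_zero] at this
      simpa using this
    have := hadd x (-x)
    rw [add_neg_cancel, h0] at this
    exact (neg_eq_of_add_eq_zero_right this.symm).symm
  have hinj : Function.Injective f := by
    intro x y hxy
    have h1 : f (x - y) = 0 := by rw [sub_eq_add_neg, hadd, hneg, hxy, add_neg_cancel]
    have h2 := hnorm (x - y)
    rw [h1] at h2
    have h3 : sqNorm ((x - y : leechLattice) : GolayPt → ℤ) = 0 := by
      rw [← h2]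
      show sqNorm (0 : GolayPt → ℤ) = 0
      unfold sqNorm
      exact Finset.sum_eq_zero fun i _ => by simp
    have h4 := sqNorm_eq_zero h3
    exact sub_eq_zero.1 (Subtype.ext h4)
  have hsurj : Function.Surjective f := by
    intro y
    have hfin := finite_norm (sqNorm (y : GolayPt → ℤ))
    have hmaps : Set.MapsTo f {x : leechLattice | sqNorm (x : GolayPt → ℤ) = sqNorm (y : GolayPt → ℤ)}
        {x : leechLattice | sqNorm (x : GolayPt → ℤ) = sqNorm (y : GolayPt → ℤ)} := by
      intro x hx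
      show sqNorm (f x : GolayPt → ℤ) = _
      rw [hnorm]; exact hx
    have himg := Set.eq_of_subset_of_ncard_le hmaps.image_subset
      (Set.ncard_image_of_injective _ hinj).ge hfin
    have hy : y ∈ {x : leechLattice | sqNorm (x : GolayPt → ℤ) = sqNorm (y : GolayPt → ℤ)} := rfl
    rw [← himg] at hy
    obtain ⟨x, -, hx⟩ := hy
    exact ⟨x, hx⟩
  exact ⟨⟨Equiv.ofBijective f ⟨hinj, hsurj⟩, hadd, hnorm⟩, fun x => rfl⟩

/-- A checked integer matrix gives an element of `Co0`. -/
theorem exists_co0 {d : ℕ} {A ys : List ℕ} (h : checkMat d A ys = true) :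
    ∃ g : Co0, ∀ x : leechLattice,
      mv A (x : GolayPt → ℤ) = (d : ℤ) • ((g • x : leechLattice) : GolayPt → ℤ) := by
  unfold checkMat at h
  rw [Bool.and_eq_true, Bool.and_eq_true, Bool.and_eq_true, beq_iff_eq] at h
  obtain ⟨⟨⟨hA, hd⟩, ho⟩, hm⟩ := h
  have hd' : 0 < d := by
    rwa [Nat.blt_eq] at hd
  have hd0 : (d : ℤ) ≠ 0 := by exact_mod_cast hd'.ne'
  let S : AddSubgroup (GolayPt → ℤ) :=
    { carrier := {x | ∃ y ∈ leechLattice, mv A x = (d : ℤ) • y}
      zero_mem' := ⟨0, leechLattice.zero_mem, by rw [mv_zero, smul_zero]⟩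
      add_mem' := by
        rintro x x' ⟨y, hy, h1⟩ ⟨y', hy', h2⟩
        exact ⟨y + y', leechLattice.add_mem hy hy', by rw [mv_add, h1, h2, smul_add]⟩
      neg_mem' := by
        rintro x ⟨y, hy, h1⟩
        exact ⟨-y, leechLattice.neg_mem hy, by rw [mv_neg, h1, smul_neg]⟩ }
  have hle : leechLattice ≤ S := leech_le' S (maps_sound hA hm)
  have hex : ∀ x : leechLattice, ∃ y : leechLattice, mv A x = (d : ℤ) • (y : GolayPt → ℤ) := by
    intro x
    obtain ⟨y, hy, h1⟩ := hle x.2
    exact ⟨⟨y, hy⟩, h1⟩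
  choose f hf using hex
  have hinj : ∀ y z : GolayPt → ℤ, (d : ℤ) • y = (d : ℤ) • z → y = z := by
    intro y z hyz
    funext p
    have := congrFun hyz p
    rw [Pi.smul_apply, Pi.smul_apply, smul_eq_mul, smul_eq_mul] at this
    exact mul_left_cancel₀ hd0 this
  obtain ⟨g, hg⟩ := exists_co0_of_map f
    (fun x y => by
      apply Subtype.ext
      apply hinj
      rw [← hf, AddSubgroup.coe_add, AddSubgroup.coe_add, mv_add, hf, hf, smul_add])
    (fun x => by
      have h1 := dotInt_mv ho (x : GolayPt → ℤ) (x : GolayPt → ℤ)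
      rw [hf, dotInt_smul_left, dotInt_smul_right, ← mul_assoc, ← sq] at h1
      rw [sqNorm_eq_dotInt, sqNorm_eq_dotInt]
      exact mul_left_cancel₀ (pow_ne_zero 2 hd0) h1)
  exact ⟨g, fun x => by rw [hg x, hf x]⟩

end Cfsg.Agent.LeechMat.Elements
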