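import Mathlib
import Cfsg.Prelude.Def_Sporadic_a
import Cfsg.Agent.LeechMat.McLData
import Cfsg.Agent.Leech.Co3Count

/-!
Enumeration of the 275 vectors `x` with `x.x = 32`, `x.u0 = 24`, `x.v0 = 16`.
-/

set_option autoImplicit false

namespace Cfsg.Agent.LeechMat.McLEnum

open Cfsg Cfsg.Agent.LeechMat.Code Cfsg.Agent.LeechMat.Core Cfsg.Agent.LeechMat.Gen
  Cfsg.Agent.LeechMat.Elements Cfsg.Agent.LeechMat.Orbit Cfsg.Agent.LeechMat.McLData
  Cfsg.Agent.Leech.Co3Count

/-- number of set bits below `n` -/
def popc (m : ℕ) : ℕ → ℕ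
  | 0 => 0
  | k + 1 => popc m k + (m >>> k) % 2

theorem popc_eq (m n : ℕ) :
    popc m n = ((Finset.range n).filter fun k => m.testBit k = true).card := by
  induction n with
  | zero => rfl
  | succ n ih =>
    show popc m n + (m >>> n) % 2 = _
    rw [Finset.range_add_one, Finset.filter_insert, ih, Nat.testBit_eq_decide_div_mod_eq,
      Nat.shiftRight_eq_div_pow]
    by_cases h : m / 2 ^ n % 2 = 1
    · rw [if_pos (by simp [h]), Finset.card_insert_of_notMem (by simp), h]
    · rw [if_neg (by simp [h])]
      omega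

theorem card_support (m : ℕ) : (support₂ (word m)).card = popc m 24 := by
  rw [popc_eq]
  refine Finset.card_bij (fun p _ => pos p) (fun p hp => ?_) (fun p _ q _ h => pos_inj h)
    (fun k hk => ?_)
  · rw [mem_support₂, word_apply] at hp
    rw [Finset.mem_filter, Finset.mem_range]
    refine ⟨pos_lt p, ?_⟩
    by_contra h
    rw [if_neg h] at hp
    exact hp rfl
  · rw [Finset.mem_filter, Finset.mem_range] at hk
    refine ⟨pt k, ?_, pos_pt k hk.1⟩
    rw [mem_support₂, word_apply, pos_pt k hk.1, if_pos hk.2]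
    decide

theorem mem_support_word (m : ℕ) (p : GolayPt) : p ∈ support₂ (word m) ↔ m.testBit (pos p) = true := by
  rw [mem_support₂, word_apply]
  by_cases h : m.testBit (pos p) = true
  · rw [if_pos h]; simp [h]
  · rw [if_neg h]; simp [h]

/-- octads as masks -/
theorem exists_mask {O : Finset GolayPt} (hO : O ∈ octads) :
    ∃ c < 4096, popc (enc c) 24 = 8 ∧ ∀ p, p ∈ O ↔ (enc c).testBit (pos p) = true := by
  obtain ⟨⟨w, hw, rfl⟩, hcard⟩ := hO
  obtain ⟨c, hc, rfl⟩ := (mem_golayCode_iff w).1 hw
  exact ⟨c, hc, by rw [← card_support]; exact hcard, mem_support_word _⟩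

/-- codes of the orbit of length 112 -/
def L1 : List ℕ := r1 :: t1.codes []

/-- codes of the orbit of length 162 -/
def L2 : List ℕ := r2 :: t2.codes []

/-- all codes -/
def L : List ℕ := cx :: (L1 ++ L2)

/-- check for one mask -/
def good (m : ℕ) : Bool :=
  if m.testBit 23 then
    if popc m 24 = 8 then
      if m.testBit 0 then
        allTo (fun k => sdig (Z0 + twos m 24) k == if m.testBit k then 2 else 0) 24 &&
          L.elem (Z0 + twos m 24)
      else
        allTo (fun k => sdig (cu - twos m 24) k ==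
          (if k = 23 then 5 else 1) - (if m.testBit k then 2 else 0)) 24 &&
          L.elem (cu - twos m 24)
    else true
  else true

theorem good_all : allTo (fun c => good (enc c)) 4096 = true := by decide +kernel

theorem goodA : allTo (fun i => i == 0 ||
    (allTo (fun k => sdig (cA i) k == if k = 23 ∨ k = i then 4 else 0) 24 && L.elem (cA i))) 23
      = true := by decide +kernel

theorem u0_eq : u0 = vec cu := by
  have : ∀ p, u0 p = vec cu p := by decide +kernel
  exact funext this

theorem v0_eq : vecA 0 = vec cv := by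
  have : ∀ p, vecA 0 p = vec cv p := by decide +kernel
  exact funext this

theorem x0_eq : vecA 1 = vec cx := by
  have : ∀ p, vecA 1 p = vec cx p := by decide +kernel
  exact funext this

theorem dot_v0 (x : GolayPt → ℤ) : dotInt (vecA 0) x = 4 * x none + 4 * x (some 0) := by
  unfold dotInt
  have h : ∀ i : GolayPt, vecA 0 i * x i = (if i = none then 4 * x none else 0) +
      (if i = some 0 then 4 * x (some 0) else 0) := by
    intro i
    unfold vecA
    by_cases h1 : i = none
    · subst h1; simp
    · by_cases h2 : i = some 0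
      · subst h2; simp
      · simp [h1, h2]
  rw [Finset.sum_congr rfl fun i _ => h i, Finset.sum_add_distrib, Finset.sum_ite_eq',
    Finset.sum_ite_eq']
  simp

theorem pos_some (i : ZMod 23) : pos (some i) = i.val := rfl

theorem pos_none : pos (none : GolayPt) = 23 := rfl

theorem mem_L_of_elem {c : ℕ} (h : L.elem c = true) : c ∈ L := List.elem_iff.1 h

/-- enumeration of the 275 vectors -/
theorem enum {x : GolayPt → ℤ} (hx : x ∈ leechLattice) (h1 : sqNorm x = 32)
    (h2 : dotInt u0 x = 24) (h3 : dotInt (vecA 0) x = 16) : ∃ c ∈ L, x = vec c := by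
  have key : ∀ O ∈ octads, none ∈ O → ∃ m, (∀ p, p ∈ O ↔ m.testBit (pos p) = true) ∧
      ((some 0 ∈ O → (∀ k < 24, sdig (Z0 + twos m 24) k = if m.testBit k then 2 else 0) ∧
        Z0 + twos m 24 ∈ L) ∧
      (some 0 ∉ O → (∀ k < 24, sdig (cu - twos m 24) k =
          (if k = 23 then 5 else 1) - (if m.testBit k then 2 else 0)) ∧
        cu - twos m 24 ∈ L)) := by
    intro O hO hn
    obtain ⟨c, hc, hp, hm⟩ := exists_mask hO
    refine ⟨enc c, hm, ?_⟩
    have hg := (allTo_iff _ _).1 good_all c hc
    unfold good at hg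
    have h23 : (enc c).testBit 23 = true := (hm none).1 hn
    have h0 : (some 0 ∈ O) ↔ (enc c).testBit 0 = true := hm (some 0)
    rw [if_pos h23, if_pos hp] at hg
    constructor
    · intro h
      rw [if_pos (h0.1 h), Bool.and_eq_true, allTo_iff] at hg
      exact ⟨fun k hk => beq_iff_eq.1 (hg.1 k hk), mem_L_of_elem hg.2⟩
    · intro h
      rw [if_neg (fun h' => h (h0.2 h')), Bool.and_eq_true, allTo_iff] at hg
      exact ⟨fun k hk => beq_iff_eq.1 (hg.1 k hk), mem_L_of_elem hg.2⟩
  rw [dot_v0] at h3
  rcases (mem552_iff x).1 ⟨hx, h1, h2⟩ with h | h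
  · rcases h with ⟨i, rfl⟩ | ⟨O, hO, hn, rfl⟩
    · have hi : i ≠ 0 := by
        rintro rfl
        simp [vecA] at h3
      have hi' : i.val ≠ 0 := by
        intro h
        exact hi ((ZMod.val_eq_zero i).1 h)
      have hg := (allTo_iff _ _).1 goodA i.val (ZMod.val_lt i)
      rw [Bool.or_eq_true, beq_iff_eq] at hg
      have hg' := hg.resolve_left hi'
      rw [Bool.and_eq_true, allTo_iff] at hg'
      refine ⟨cA i.val, mem_L_of_elem hg'.2, ?_⟩
      funext p
      have h4 := beq_iff_eq.1 (hg'.1 (pos p) (pos_lt p))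
      rw [vec_apply, h4]
      unfold vecA
      have e1 : (p = none ∨ p = some i) ↔ (pos p = 23 ∨ pos p = i.val) := by
        show (p = none ∨ p = some i) ↔ (pos p = pos none ∨ pos p = pos (some i))
        exact ⟨fun h => h.imp (fun h => by rw [h]) (fun h => by rw [h]),
          fun h => h.imp (fun h => pos_inj h) (fun h => pos_inj h)⟩
      simp only [e1]
    · obtain ⟨m, hm, hA, -⟩ := key O hO hn
      have h0 : some 0 ∈ O := by
        by_contra h0
        unfold vecB at h3
        rw [if_pos hn, if_neg h0] at h3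
        norm_num at h3
      obtain ⟨h4, h5⟩ := hA h0
      refine ⟨_, h5, ?_⟩
      funext p
      rw [vec_apply, h4 _ (pos_lt p)]
      unfold vecB
      simp only [hm p]
  · rcases h with ⟨i, hi⟩ | ⟨O, hO, hn, hO'⟩
    · exfalso
      have e1 := congrFun hi none
      have e2 := congrFun hi (some 0)
      unfold vecA at e1 e2
      rw [Pi.sub_apply, u0_none, if_pos (Or.inl rfl)] at e1
      rw [Pi.sub_apply, u0_some] at e2
      split_ifs at e2 <;> omega
    · obtain ⟨m, hm, -, hB⟩ := key O hO hn
      have e1 := congrFun hO' none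
      have e2 := congrFun hO' (some 0)
      unfold vecB at e1 e2
      rw [Pi.sub_apply, u0_none, if_pos hn] at e1
      rw [Pi.sub_apply, u0_some] at e2
      have h0 : some 0 ∉ O := by
        intro h0
        rw [if_pos h0] at e2
        omega
      obtain ⟨h4, h5⟩ := hB h0
      refine ⟨_, h5, ?_⟩
      funext p
      have e3 := congrFun hO' p
      rw [vec_apply, h4 _ (pos_lt p)]
      unfold vecB at e3
      rw [Pi.sub_apply] at e3
      have e4 : u0 p = if pos p = 23 then 5 else 1 := by
        rcases p with _ | i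
        · rfl
        · rw [u0_some, pos_some, if_neg]
          have : i.val < 23 := ZMod.val_lt i
          omega
      rw [← e4]
      simp only [hm p] at e3
      omega

theorem vec_r1 : dotInt (vec cx) (vec r1) = 8 := by rw [← dotc_eq]; decide +kernel
theorem vec_r2 : dotInt (vec cx) (vec r2) = 16 := by rw [← dotc_eq]; decide +kernel

theorem r1_data : isLeech r1 = true ∧ dotc r1 r1 = 32 ∧ dotc cu r1 = 24 ∧ dotc cv r1 = 16 ∧
    dotc cx r1 = 8 := by decide +kernel
theorem r2_data : isLeech r2 = true ∧ dotc r2 r2 = 32 ∧ dotc cu r2 = 24 ∧ dotc cv r2 = 16 ∧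
    dotc cx r2 = 16 := by decide +kernel
theorem c_data : isLeech cu = true ∧ isLeech cv = true ∧ isLeech cx = true ∧
    dotc cu cu = 48 ∧ dotc cv cv = 32 ∧ dotc cx cx = 32 ∧ dotc cu cv = 24 ∧ dotc cu cx = 24 ∧
    dotc cv cx = 16 := by decide +kernel

theorem L1_nodup : L1.length = 112 ∧ L1.Nodup := by decide +kernel
theorem L2_nodup : L2.length = 162 ∧ L2.Nodup := by decide +kernel

end Cfsg.Agent.LeechMat.McLEnum
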