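import Mathlib
import Cfsg.Prelude.Def_Sporadic_a
import Cfsg.Agent.LeechMat.McLEnum

/-!
The stabiliser of the standard triple `(u0, v0, x0)` is transitive on the sets of 112 and 162
vectors; the two sets are determined.
-/

set_option autoImplicit false

namespace Cfsg.Agent.LeechMat.McLOrbits

open Cfsg Cfsg.Agent.LeechMat.Code Cfsg.Agent.LeechMat.Core Cfsg.Agent.LeechMat.Gen
  Cfsg.Agent.LeechMat.Elements Cfsg.Agent.LeechMat.Orbit Cfsg.Agent.LeechMat.McLData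
  Cfsg.Agent.LeechMat.McLEnum
open Cfsg.Agent.Leech.Co3Count (u0 vecA)

/-- `u0 = (5, 1^23)` in the lattice -/
def uL : leechLattice := ⟨vec cu, isLeech_sound c_data.1⟩
/-- `v0 = 4e_∞ + 4e_0` in the lattice -/
def vL : leechLattice := ⟨vec cv, isLeech_sound c_data.2.1⟩
/-- `x0 = 4e_∞ + 4e_1` in the lattice -/
def xL : leechLattice := ⟨vec cx, isLeech_sound c_data.2.2.1⟩
/-- root of the orbit of length 112 -/
def R1 : leechLattice := ⟨vec r1, isLeech_sound r1_data.1⟩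
/-- root of the orbit of length 162 -/
def R2 : leechLattice := ⟨vec r2, isLeech_sound r2_data.1⟩

theorem norm_uL : sqNorm (uL : GolayPt → ℤ) = 48 := by
  show sqNorm (vec cu) = 48
  rw [sqNorm_eq_dotInt, ← dotc_eq]; exact c_data.2.2.2.1

theorem norm_vL : sqNorm (vL : GolayPt → ℤ) = 32 := by
  show sqNorm (vec cv) = 32
  rw [sqNorm_eq_dotInt, ← dotc_eq]; exact c_data.2.2.2.2.1

theorem norm_xL : sqNorm (xL : GolayPt → ℤ) = 32 := by
  show sqNorm (vec cx) = 32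
  rw [sqNorm_eq_dotInt, ← dotc_eq]; exact c_data.2.2.2.2.2.1

theorem norm_R1 : sqNorm (R1 : GolayPt → ℤ) = 32 := by
  show sqNorm (vec r1) = 32
  rw [sqNorm_eq_dotInt, ← dotc_eq]; exact r1_data.2.1

theorem norm_R2 : sqNorm (R2 : GolayPt → ℤ) = 32 := by
  show sqNorm (vec r2) = 32
  rw [sqNorm_eq_dotInt, ← dotc_eq]; exact r2_data.2.1

theorem dot_uv : dotInt (uL : GolayPt → ℤ) (vL : GolayPt → ℤ) = 24 := by
  show dotInt (vec cu) (vec cv) = 24
  rw [← dotc_eq]; exact c_data.2.2.2.2.2.2.1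

theorem dot_ux : dotInt (uL : GolayPt → ℤ) (xL : GolayPt → ℤ) = 24 := by
  show dotInt (vec cu) (vec cx) = 24
  rw [← dotc_eq]; exact c_data.2.2.2.2.2.2.2.1

theorem dot_vx : dotInt (vL : GolayPt → ℤ) (xL : GolayPt → ℤ) = 16 := by
  show dotInt (vec cv) (vec cx) = 16
  rw [← dotc_eq]; exact c_data.2.2.2.2.2.2.2.2

theorem dot_uR1 : dotInt (uL : GolayPt → ℤ) (R1 : GolayPt → ℤ) = 24 := by
  show dotInt (vec cu) (vec r1) = 24
  rw [← dotc_eq]; exact r1_data.2.2.1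

theorem dot_vR1 : dotInt (vL : GolayPt → ℤ) (R1 : GolayPt → ℤ) = 16 := by
  show dotInt (vec cv) (vec r1) = 16
  rw [← dotc_eq]; exact r1_data.2.2.2.1

theorem dot_xR1 : dotInt (xL : GolayPt → ℤ) (R1 : GolayPt → ℤ) = 8 := by
  show dotInt (vec cx) (vec r1) = 8
  rw [← dotc_eq]; exact r1_data.2.2.2.2

theorem dot_uR2 : dotInt (uL : GolayPt → ℤ) (R2 : GolayPt → ℤ) = 24 := by
  show dotInt (vec cu) (vec r2) = 24
  rw [← dotc_eq]; exact r2_data.2.2.1

theorem dot_vR2 : dotInt (vL : GolayPt → ℤ) (R2 : GolayPt → ℤ) = 16 := by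
  show dotInt (vec cv) (vec r2) = 16
  rw [← dotc_eq]; exact r2_data.2.2.2.1

theorem dot_xR2 : dotInt (xL : GolayPt → ℤ) (R2 : GolayPt → ℤ) = 16 := by
  show dotInt (vec cx) (vec r2) = 16
  rw [← dotc_eq]; exact r2_data.2.2.2.2

/-- stabiliser of the triple -/
def S3 : Subgroup Co0 :=
  MulAction.stabilizer Co0 uL ⊓ MulAction.stabilizer Co0 vL ⊓ MulAction.stabilizer Co0 xL

theorem mem_S3 {g : Co0} : g ∈ S3 ↔ g • uL = uL ∧ g • vL = vL ∧ g • xL = xL := by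
  unfold S3
  rw [Subgroup.mem_inf, Subgroup.mem_inf, MulAction.mem_stabilizer_iff,
    MulAction.mem_stabilizer_iff, MulAction.mem_stabilizer_iff, and_assoc]

theorem gens_S3 (i : ℕ) : ∃ g ∈ S3, Rep 8 (Ms i) g := by
  unfold Ms
  have aux : ∀ A : List ℕ, (∃ g : Co0, Rep 8 A g) → fixes 8 A [cu, cv, cx] = true →
      ∃ g ∈ S3, Rep 8 A g := by
    rintro A ⟨g, hg⟩ hf
    refine ⟨g, mem_S3.2 ⟨?_, ?_, ?_⟩, hg⟩
    · exact fixes_sound hg hf (by simp) (x := uL) rfl (by rw [norm_uL]; norm_num)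
    · exact fixes_sound hg hf (by simp) (x := vL) rfl (by rw [norm_vL]; norm_num)
    · exact fixes_sound hg hf (by simp) (x := xL) rfl (by rw [norm_xL]; norm_num)
  split
  · exact aux _ rep0 fix0
  · exact aux _ rep1 fix1

theorem orb1 : ∀ c ∈ L1, ∃ g ∈ S3, ((g • R1 : leechLattice) : GolayPt → ℤ) = vec c := by
  intro c hc
  rcases List.mem_cons.1 hc with rfl | hc
  · exact ⟨1, S3.one_mem, by rw [one_smul]; rfl⟩
  · exact Tree.sound S3 gens_S3 R1 (by rw [norm_R1]; norm_num) t1 r1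
      ⟨1, S3.one_mem, by rw [one_smul]; rfl⟩ chk1 c hc

theorem orb2 : ∀ c ∈ L2, ∃ g ∈ S3, ((g • R2 : leechLattice) : GolayPt → ℤ) = vec c := by
  intro c hc
  rcases List.mem_cons.1 hc with rfl | hc
  · exact ⟨1, S3.one_mem, by rw [one_smul]; rfl⟩
  · exact Tree.sound S3 gens_S3 R2 (by rw [norm_R2]; norm_num) t2 r2
      ⟨1, S3.one_mem, by rw [one_smul]; rfl⟩ chk2 c hc

/-- invariants are constant on orbits of `S3` -/
theorem inv_S3 {g : Co0} (hg : g ∈ S3) (r : leechLattice) :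
    sqNorm ((g • r : leechLattice) : GolayPt → ℤ) = sqNorm (r : GolayPt → ℤ) ∧
    dotInt (uL : GolayPt → ℤ) ((g • r : leechLattice) : GolayPt → ℤ)
      = dotInt (uL : GolayPt → ℤ) (r : GolayPt → ℤ) ∧
    dotInt (vL : GolayPt → ℤ) ((g • r : leechLattice) : GolayPt → ℤ)
      = dotInt (vL : GolayPt → ℤ) (r : GolayPt → ℤ) ∧
    dotInt (xL : GolayPt → ℤ) ((g • r : leechLattice) : GolayPt → ℤ)
      = dotInt (xL : GolayPt → ℤ) (r : GolayPt → ℤ) := by
  obtain ⟨h1, h2, h3⟩ := mem_S3.1 hg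
  refine ⟨co0_sqNorm g r, ?_, ?_, ?_⟩
  · conv_lhs => rw [← h1]
    exact co0_dotInt g uL r
  · conv_lhs => rw [← h2]
    exact co0_dotInt g vL r
  · conv_lhs => rw [← h3]
    exact co0_dotInt g xL r

/-- the standard set of 275 vectors -/
def X275 : Set leechLattice :=
  {x | sqNorm (x : GolayPt → ℤ) = 32 ∧ dotInt (uL : GolayPt → ℤ) (x : GolayPt → ℤ) = 24 ∧
    dotInt (vL : GolayPt → ℤ) (x : GolayPt → ℤ) = 16}

theorem mem_X275_cases {x : leechLattice} (hx : x ∈ X275) :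
    x = xL ∨ (∃ g ∈ S3, g • R1 = x) ∨ (∃ g ∈ S3, g • R2 = x) := by
  obtain ⟨h1, h2, h3⟩ := hx
  obtain ⟨c, hc, hxc⟩ := enum x.2 h1 (by rw [u0_eq]; exact h2) (by rw [v0_eq]; exact h3)
  rcases List.mem_cons.1 hc with rfl | hc
  · left; exact Subtype.ext hxc
  · right
    rcases List.mem_append.1 hc with hc | hc
    · left
      obtain ⟨g, hg, h⟩ := orb1 c hc
      exact ⟨g, hg, Subtype.ext (h.trans hxc.symm)⟩
    · right
      obtain ⟨g, hg, h⟩ := orb2 c hc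
      exact ⟨g, hg, Subtype.ext (h.trans hxc.symm)⟩

theorem mem_orb1_iff (x : leechLattice) :
    (x ∈ X275 ∧ dotInt (xL : GolayPt → ℤ) (x : GolayPt → ℤ) = 8) ↔
      ∃ c ∈ L1, (x : GolayPt → ℤ) = vec c := by
  constructor
  · rintro ⟨hx, h8⟩
    obtain ⟨h1, h2, h3⟩ := hx
    obtain ⟨c, hc, hxc⟩ := enum x.2 h1 (by rw [u0_eq]; exact h2) (by rw [v0_eq]; exact h3)
    rcases List.mem_cons.1 hc with rfl | hc
    · exfalso
      have : x = xL := Subtype.ext hxc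
      rw [this, ← sqNorm_eq_dotInt, norm_xL] at h8
      norm_num at h8
    · rcases List.mem_append.1 hc with hc | hc
      · exact ⟨c, hc, hxc⟩
      · exfalso
        obtain ⟨g, hg, h⟩ := orb2 c hc
        have h' : g • R2 = x := Subtype.ext (h.trans hxc.symm)
        have := (inv_S3 hg R2).2.2.2
        rw [h', h8, dot_xR2] at this
        norm_num at this
  · rintro ⟨c, hc, hxc⟩
    obtain ⟨g, hg, h⟩ := orb1 c hc
    have h' : g • R1 = x := Subtype.ext (h.trans hxc.symm)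
    obtain ⟨e1, e2, e3, e4⟩ := inv_S3 hg R1
    rw [h'] at e1 e2 e3 e4
    exact ⟨⟨e1.trans norm_R1, e2.trans dot_uR1, e3.trans dot_vR1⟩, e4.trans dot_xR1⟩

theorem mem_orb2_iff (x : leechLattice) :
    (x ∈ X275 ∧ x ≠ xL ∧ dotInt (xL : GolayPt → ℤ) (x : GolayPt → ℤ) = 16) ↔
      ∃ c ∈ L2, (x : GolayPt → ℤ) = vec c := by
  constructor
  · rintro ⟨hx, hne, h8⟩
    obtain ⟨h1, h2, h3⟩ := hx
    obtain ⟨c, hc, hxc⟩ := enum x.2 h1 (by rw [u0_eq]; exact h2) (by rw [v0_eq]; exact h3)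
    rcases List.mem_cons.1 hc with rfl | hc
    · exact absurd (Subtype.ext hxc) hne
    · rcases List.mem_append.1 hc with hc | hc
      · exfalso
        obtain ⟨g, hg, h⟩ := orb1 c hc
        have h' : g • R1 = x := Subtype.ext (h.trans hxc.symm)
        have := (inv_S3 hg R1).2.2.2
        rw [h', h8, dot_xR1] at this
        norm_num at this
      · exact ⟨c, hc, hxc⟩
  · rintro ⟨c, hc, hxc⟩
    obtain ⟨g, hg, h⟩ := orb2 c hc
    have h' : g • R2 = x := Subtype.ext (h.trans hxc.symm)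
    obtain ⟨e1, e2, e3, e4⟩ := inv_S3 hg R2
    rw [h'] at e1 e2 e3 e4
    refine ⟨⟨e1.trans norm_R2, e2.trans dot_uR2, e3.trans dot_vR2⟩, ?_, e4.trans dot_xR2⟩
    rintro rfl
    rw [← sqNorm_eq_dotInt, norm_xL, dot_xR2] at e4
    norm_num at e4

theorem L1_lt : ∀ c ∈ L1, c < 32 ^ 24 := by
  intro c hc
  rcases List.mem_cons.1 hc with rfl | hc
  · decide +kernel
  · exact Tree.codes_lt t1 r1 chk1 c hc

theorem L2_lt : ∀ c ∈ L2, c < 32 ^ 24 := by
  intro c hc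
  rcases List.mem_cons.1 hc with rfl | hc
  · decide +kernel
  · exact Tree.codes_lt t2 r2 chk2 c hc

theorem ncard1 : {x : leechLattice | x ∈ X275 ∧
    dotInt (xL : GolayPt → ℤ) (x : GolayPt → ℤ) = 8}.ncard = 112 := by
  rw [Set.ext fun x => mem_orb1_iff x, ncard_codes L1 L1_lt L1_nodup.2 ?_, L1_nodup.1]
  intro c hc
  obtain ⟨g, -, h⟩ := orb1 c hc
  rw [← h]; exact (g • R1).2

theorem ncard2 : {x : leechLattice | x ∈ X275 ∧ x ≠ xL ∧
    dotInt (xL : GolayPt → ℤ) (x : GolayPt → ℤ) = 16}.ncard = 162 := by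
  rw [Set.ext fun x => mem_orb2_iff x, ncard_codes L2 L2_lt L2_nodup.2 ?_, L2_nodup.1]
  intro c hc
  obtain ⟨g, -, h⟩ := orb2 c hc
  rw [← h]; exact (g • R2).2

/-- transitivity on each of the two sets -/
theorem trans_std {y y' : leechLattice} (hy : y ∈ X275) (hy' : y' ∈ X275) (hne : y ≠ xL)
    (hne' : y' ≠ xL)
    (h : dotInt (xL : GolayPt → ℤ) (y : GolayPt → ℤ) = dotInt (xL : GolayPt → ℤ) (y' : GolayPt → ℤ)) :
    ∃ g ∈ S3, g • y = y' := by
  rcases mem_X275_cases hy with h1 | ⟨g, hg, h1⟩ | ⟨g, hg, h1⟩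
  · exact absurd h1 hne
  · rcases mem_X275_cases hy' with h2 | ⟨g', hg', h2⟩ | ⟨g', hg', h2⟩
    · exact absurd h2 hne'
    · refine ⟨g' * g⁻¹, S3.mul_mem hg' (S3.inv_mem hg), ?_⟩
      rw [mul_smul, ← h1, inv_smul_smul, h2]
    · exfalso
      have e1 := (inv_S3 hg R1).2.2.2
      have e2 := (inv_S3 hg' R2).2.2.2
      rw [h1, dot_xR1] at e1
      rw [h2, dot_xR2] at e2
      rw [e1, e2] at h
      norm_num at h
  · rcases mem_X275_cases hy' with h2 | ⟨g', hg', h2⟩ | ⟨g', hg', h2⟩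
    · exact absurd h2 hne'
    · exfalso
      have e1 := (inv_S3 hg R2).2.2.2
      have e2 := (inv_S3 hg' R1).2.2.2
      rw [h1, dot_xR2] at e1
      rw [h2, dot_xR1] at e2
      rw [e1, e2] at h
      norm_num at h
    · refine ⟨g' * g⁻¹, S3.mul_mem hg' (S3.inv_mem hg), ?_⟩
      rw [mul_smul, ← h1, inv_smul_smul, h2]

end Cfsg.Agent.LeechMat.McLOrbits
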