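import Cfsg.Agent.S0401
import Cfsg.Agent.Leech.Co3Trans
import Cfsg.Agent.LeechMat.McLOrbits

/-!
Every McLaughlin triple `(u, v, x)` is conjugate to the standard one `(uL, vL, xL)`.
-/

set_option autoImplicit false

namespace Cfsg.Agent.LeechMat.McLConfig

open Cfsg
open Cfsg.Agent.LeechMat.Core Cfsg.Agent.LeechMat.McLOrbits Cfsg.Agent.LeechMat.McLEnum

theorem uL_eq : Cfsg.Agent.Leech.Co3Trans.u0L = uL := Subtype.ext u0_eq
theorem vL_eq : Cfsg.Agent.Leech.Co3Trans.v0L = vL := Subtype.ext v0_eq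
theorem xL_eq : Cfsg.Agent.Leech.Co3Trans.x0L = xL := Subtype.ext x0_eq

theorem mem_iff {u v : leechLattice} {b : Co0} (hu : b • u = uL) (hv : b • v = vL)
    (y : leechLattice) : (sqNorm (y : GolayPt → ℤ) = 32 ∧
      sqNorm ((u - y : leechLattice) : GolayPt → ℤ) = 32 ∧
      dotInt (v : GolayPt → ℤ) (y : GolayPt → ℤ) = 16) ↔ b • y ∈ X275 := by
  have h1 : dotInt (v : GolayPt → ℤ) (y : GolayPt → ℤ) =
      dotInt (vL : GolayPt → ℤ) ((b • y : leechLattice) : GolayPt → ℤ) := by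
    rw [← hv, co0_dotInt]
  have h2 : sqNorm ((u - y : leechLattice) : GolayPt → ℤ) =
      48 - 2 * dotInt (uL : GolayPt → ℤ) ((b • y : leechLattice) : GolayPt → ℤ)
        + sqNorm ((b • y : leechLattice) : GolayPt → ℤ) := by
    rw [← co0_sqNorm b (u - y), co0_smul_sub, hu, AddSubgroup.coe_sub, sqNorm_sub, norm_uL]
  have h3 : sqNorm (y : GolayPt → ℤ) = sqNorm ((b • y : leechLattice) : GolayPt → ℤ) :=
    (co0_sqNorm b y).symm
  rw [h1, h2, h3]
  constructor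
  · rintro ⟨h3, h4, h5⟩
    exact ⟨h3, by linarith, h5⟩
  · rintro ⟨h3, h4, h5⟩
    exact ⟨h3, by linarith, h5⟩

/-- every McLaughlin triple is conjugate to the standard one -/
theorem config3 {u v x : leechLattice} (hu : sqNorm (u : GolayPt → ℤ) = 48)
    (hv : sqNorm (v : GolayPt → ℤ) = 32 ∧ sqNorm ((u - v : leechLattice) : GolayPt → ℤ) = 32)
    (hx : sqNorm (x : GolayPt → ℤ) = 32 ∧ sqNorm ((u - x : leechLattice) : GolayPt → ℤ) = 32 ∧
      dotInt (v : GolayPt → ℤ) (x : GolayPt → ℤ) = 16) :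
    ∃ b : Co0, b • u = uL ∧ b • v = vL ∧ b • x = xL := by
  obtain ⟨b, hb1, hb2⟩ := Cfsg.Agent.Leech.Co3Trans.config S0401.result hu hv
  rw [uL_eq] at hb1
  rw [vL_eq] at hb2
  obtain ⟨h1, h2, h3⟩ := (mem_iff hb1 hb2 x).1 hx
  obtain ⟨g, hg, h4⟩ := Cfsg.Agent.Leech.Co3Trans.to_x0 (b • x) h1 (by rw [u0_eq]; exact h2)
    (by rw [v0_eq]; exact h3)
  have hg' : g • uL = uL ∧ g • vL = vL := by
    have h5 : g ∈ MulAction.stabilizer Co0 Cfsg.Agent.Leech.Co3Trans.u0L ⊓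
      MulAction.stabilizer Co0 Cfsg.Agent.Leech.Co3Trans.v0L := hg
    rw [uL_eq, vL_eq, Subgroup.mem_inf, MulAction.mem_stabilizer_iff,
      MulAction.mem_stabilizer_iff] at h5
    exact h5
  refine ⟨g * b, ?_, ?_, ?_⟩
  · rw [mul_smul, hb1, hg'.1]
  · rw [mul_smul, hb2, hg'.2]
  · rw [mul_smul, h4, xL_eq]

end Cfsg.Agent.LeechMat.McLConfig
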