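import Cfsg.Agent.LeechMat.Orbit
import Cfsg.Agent.SporadicStructure.Co0Base

/-!
Kernel-fast evaluation of words in explicit elements of `Co0`, relations between such words.
`run Ms Ss w b k` applies the word `w` (letters `i` with matrices `Ms i`, digit sums `Ss i`) to the vector with
code `b` and passes the code of the result to the test `k`.
-/

set_option autoImplicit false

namespace Cfsg.Agent.LeechMat.Words

open Cfsg Cfsg.Agent.LeechMat.Code Cfsg.Agent.LeechMat.Core Cfsg.Agent.LeechMat.Gen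
  Cfsg.Agent.LeechMat.Elements Cfsg.Agent.LeechMat.Orbit

/-- force the evaluation of a natural number -/
def frc {α : Sort*} (n : ℕ) (f : ℕ → α) : α := Nat.rec (f 0) (fun k _ => f (k + 1)) n

theorem frc_eq {α : Sort*} (n : ℕ) (f : ℕ → α) : frc n f = f n := by
  cases n <;> rfl

attribute [irreducible] frc

/-- sum of the first `n` digits -/
def dsum : ℕ → ℕ → ℕ
  | 0, _ => 0
  | n + 1, b => b % 32 + dsum n (b >>> 5)

/-- packed product with the raw digits -/
def appn : List ℕ → ℕ → ℕ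
  | [], _ => 0
  | a :: A, b => (b % 32) * a + appn A (b >>> 5)

theorem appc_eq_appn (A : List ℕ) (b : ℕ) :
    appc A b = (appn A b : ℤ) - 16 * (A.sum : ℤ) - (Z0 : ℤ) * (dsum A.length b : ℤ)
      + 16 * (Z0 : ℤ) * (A.length : ℤ) := by
  induction A generalizing b with
  | nil => simp [appc, appn, dsum]
  | cons a A ih =>
    rw [appc, appn, List.sum_cons, List.length_cons, dsum, ih]
    have h : sdig b 0 = ((b % 32 : ℕ) : ℤ) - 16 := rfl
    rw [h, val]
    push_cast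
    ring

/-- `384 Z0 + 8 Z0` -/
def K0 : ℕ := 392 * Z0

/-- one step -/
def stepB (A : List ℕ) (s b : ℕ) (k : ℕ → Bool) : Bool :=
  frc (K0 + appn A b) fun P =>
    frc (16 * s + Z0 * dsum 24 b) fun R =>
      frc ((P - R) / 8) fun m => Nat.beq P (8 * m + R) && (Nat.blt m (32 ^ 24) && k m)

/-- apply a word -/
def run (Ms : ℕ → List ℕ) (Ss : ℕ → ℕ) : List ℕ → ℕ → (ℕ → Bool) → Bool
  | [], b, k => k b
  | i :: w, b, k => run Ms Ss w b fun c => stepB (Ms i) (Ss i) c k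

theorem stepB_sound {A : List ℕ} {s b : ℕ} {k : ℕ → Bool} {g : Co0} (hr : Rep 8 A g)
    (hs : s = A.sum) (h : stepB A s b k = true) :
    ∃ m, m < 32 ^ 24 ∧ k m = true ∧ ∀ x : leechLattice, (x : GolayPt → ℤ) = vec b →
      sqNorm (x : GolayPt → ℤ) ≤ 225 → ((g • x : leechLattice) : GolayPt → ℤ) = vec m := by
  rw [stepB, frc_eq, frc_eq, frc_eq, Bool.and_eq_true, Bool.and_eq_true] at h
  obtain ⟨h1, h2, h3⟩ := h
  generalize hm : (K0 + appn A b - (16 * s + Z0 * dsum 24 b)) / 8 = m at h1 h2 h3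
  have h1' : K0 + appn A b = 8 * m + (16 * s + Z0 * dsum 24 b) := Nat.eq_of_beq_eq_true h1
  have h2' : m < 32 ^ 24 := by rwa [Nat.blt_eq] at h2
  refine ⟨m, h2', h3, fun x hx hN => ?_⟩
  have happ : appc A b = ((8 : ℕ) : ℤ) * val m := by
    rw [appc_eq_appn, hr.2.1, ← hs, val]
    have h4 : (K0 : ℤ) + ((appn A b : ℕ) : ℤ) = 8 * (m : ℤ) + (16 * (s : ℤ) + (Z0 : ℤ) * (dsum 24 b : ℤ)) := by
      rw [← Nat.cast_add, h1']
      push_cast
      rfl
    have h5 : (K0 : ℤ) = 392 * (Z0 : ℤ) := by rw [K0, Nat.cast_mul]; rfl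
    rw [h5] at h4
    have h6 : ((8 : ℕ) : ℤ) = 8 := rfl
    have h7 : ((24 : ℕ) : ℤ) = 24 := rfl
    rw [h6, h7]
    generalize (Z0 : ℤ) = z at h4 ⊢
    generalize ((appn A b : ℕ) : ℤ) = p at h4 ⊢
    generalize ((dsum 24 b : ℕ) : ℤ) = q at h4 ⊢
    clear h5 h6 h7 h1 h1' hm h2 h2' hx
    linarith
  exact hr.step hx hN h2' happ

/-- the product of the letters of a word -/
def prodW {G : Type*} [Group G] (a : ℕ → G) : List ℕ → G
  | [] => 1
  | i :: w => a i * prodW a w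

theorem run_sound {Ms : ℕ → List ℕ} {Ss : ℕ → ℕ} {G : ℕ → Co0} (w : List ℕ)
    (hr : ∀ i ∈ w, Rep 8 (Ms i) (G i)) (hs : ∀ i ∈ w, Ss i = (Ms i).sum) (b : ℕ) (hb : b < 32 ^ 24)
    (k : ℕ → Bool) (h : run Ms Ss w b k = true) :
    ∃ m, m < 32 ^ 24 ∧ k m = true ∧ ∀ x : leechLattice, (x : GolayPt → ℤ) = vec b →
      sqNorm (x : GolayPt → ℤ) ≤ 225 →
      ((prodW G w • x : leechLattice) : GolayPt → ℤ) = vec m := by
  induction w generalizing k with
  | nil =>
    refine ⟨b, hb, h, fun x hx _ => ?_⟩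
    rw [prodW, one_smul]; exact hx
  | cons i w ih =>
    rw [run] at h
    obtain ⟨c, hc, hk, hx⟩ := ih (fun j hj => hr j (List.mem_cons_of_mem _ hj))
      (fun j hj => hs j (List.mem_cons_of_mem _ hj)) _ h
    obtain ⟨m, hm, hk', hx'⟩ := stepB_sound (hr i List.mem_cons_self) (hs i List.mem_cons_self) hk
    refine ⟨m, hm, hk', fun x h1 h2 => ?_⟩
    rw [prodW, mul_smul]
    exact hx' _ (hx x h1 h2) (by rw [co0_sqNorm]; exact h2)

/-- the code of `8 e_k` -/
def c8 (k : ℕ) : ℕ := Z0 + (8 <<< (5 * k))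

theorem vec_c8 (i : GolayPt) :
    vec (c8 (pos i)) = ((SporadicStructure.Co0Base.e8 i : leechLattice) : GolayPt → ℤ) := by
  rw [SporadicStructure.Co0Base.e8_coe]
  have key : ∀ j < 24, ∀ k < 24, sdig (c8 j) k = if k = j then 8 else 0 := by decide +kernel
  funext p
  rw [vec_apply, key _ (pos_lt i) _ (pos_lt p), Pi.single_apply]
  by_cases h : p = i
  · rw [if_pos h, if_pos (by rw [h])]
  · rw [if_neg h, if_neg (fun h' => h (pos_inj h'))]

theorem c8_lt (i : GolayPt) : c8 (pos i) < 32 ^ 24 := by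
  have key : ∀ j < 24, c8 j < 32 ^ 24 := by decide +kernel
  exact key _ (pos_lt i)

theorem sqNorm_e8 (i : GolayPt) :
    sqNorm ((SporadicStructure.Co0Base.e8 i : leechLattice) : GolayPt → ℤ) ≤ 225 := by
  rw [SporadicStructure.Co0Base.e8_coe, sqNorm, Finset.sum_eq_single i]
  · rw [Pi.single_eq_same]; norm_num
  · intro j _ hj
    rw [Pi.single_eq_of_ne hj]; norm_num
  · intro h; exact absurd (Finset.mem_univ i) h

/-- the two words agree on the vector with code `b` -/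
def same1 (Ms : ℕ → List ℕ) (Ss : ℕ → ℕ) (w w' : List ℕ) (b : ℕ) : Bool :=
  run Ms Ss w b fun c => run Ms Ss w' b fun c' => Nat.beq c c'

/-- the two words agree -/
def same (Ms : ℕ → List ℕ) (Ss : ℕ → ℕ) (w w' : List ℕ) : Bool :=
  allTo (fun k => same1 Ms Ss w w' (c8 k)) 24

theorem same1_sound {Ms : ℕ → List ℕ} {Ss : ℕ → ℕ} {G : ℕ → Co0} {w w' : List ℕ}
    (hr : ∀ i ∈ w ++ w', Rep 8 (Ms i) (G i)) (hs : ∀ i ∈ w ++ w', Ss i = (Ms i).sum) {b : ℕ}
    (hb : b < 32 ^ 24) (h : same1 Ms Ss w w' b = true) {x : leechLattice}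
    (hx : (x : GolayPt → ℤ) = vec b) (hN : sqNorm (x : GolayPt → ℤ) ≤ 225) :
    prodW G w • x = prodW G w' • x := by
  obtain ⟨c, hc, hk, h1⟩ := run_sound w (fun i hi => hr i (List.mem_append_left _ hi))
    (fun i hi => hs i (List.mem_append_left _ hi)) b hb _ h
  obtain ⟨c', hc', hk', h2⟩ := run_sound w' (fun i hi => hr i (List.mem_append_right _ hi))
    (fun i hi => hs i (List.mem_append_right _ hi)) b hb _ hk
  have hcc : c = c' := Nat.eq_of_beq_eq_true hk'
  apply Subtype.ext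
  rw [h1 x hx hN, h2 x hx hN, hcc]

theorem same_sound {Ms : ℕ → List ℕ} {Ss : ℕ → ℕ} {G : ℕ → Co0} {w w' : List ℕ}
    (hr : ∀ i ∈ w ++ w', Rep 8 (Ms i) (G i)) (hs : ∀ i ∈ w ++ w', Ss i = (Ms i).sum)
    (h : same Ms Ss w w' = true) : prodW G w = prodW G w' := by
  rw [same, allTo_iff] at h
  apply SporadicStructure.Co0Base.co0_ext_e8
  intro i
  exact same1_sound hr hs (c8_lt i) (h _ (pos_lt i)) (vec_c8 i).symm (sqNorm_e8 i)

end Cfsg.Agent.LeechMat.Words
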